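import Cfsg.Agent.Blocks.DihedralOrder

/-!
# The second identity of the principal 2-block with a dihedral Sylow 2-subgroup

The combination of the four exceptional characters which vanishes on the odd elements and on the
involutions, paired with the numbers of pairs of involutions.
-/

set_option autoImplicit false
set_option linter.unusedSimpArgs false
set_option linter.unusedSectionVars false
set_option linter.style.haveILetI false

namespace Cfsg.Lib.Dihedral

open Cfsg.Lib.Chars Cfsg.Lib.Blocks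
open scoped ComplexConjugate

universe u

variable {G : Type u} [Group G] [Fintype G]
variable {P : Sylow 2 G} {σ τ : G} {m : ℕ}

set_option maxHeartbeats 3200000 in
/-- The signed degrees `ξ`, `D`, `E` of the three exceptional characters of the principal block. -/
theorem Data.two_identities (d : Data P σ τ m) {M : Ideal AlgInt} (hM : IsPModular 2 M)
    (hτ : IsConj (σ ^ 2 ^ (m - 1)) τ) (hστ : IsConj (σ ^ 2 ^ (m - 1)) (σ * τ)) :
    ∃ (χ φ ψ : IrrCharacter G) (e e₁ e₂ : ℤ), (e = 1 ∨ e = -1) ∧ (e₁ = 1 ∨ e₁ = -1) ∧ (e₂ = 1 ∨ e₂ = -1) ∧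
      χ ≠ principal G ∧ φ ≠ principal G ∧ ψ ≠ principal G ∧
      1 + (e : ℂ) * deg (χ : G → ℂ) + e₁ * deg (φ : G → ℂ) + e₂ * deg (ψ : G → ℂ) = 0 ∧
      (deg (χ : G → ℂ) : ℂ) ≠ e ∧
      (Nat.card G : ℂ) * ((deg (χ : G → ℂ) : ℂ) - e) ^ 2 =
        2 * (deg (χ : G → ℂ) : ℂ) * ((deg (χ : G → ℂ) : ℂ) + e) *
          (Nat.card (Subgroup.centralizer ({σ ^ 2 ^ (m - 1)} : Set G)) : ℂ) ^ 3 *
          (1 / (Nat.card (Subgroup.centralizer ({σ ^ 2 ^ (m - 1), τ} : Set G)) : ℂ) +
            1 / (Nat.card (Subgroup.centralizer ({σ ^ 2 ^ (m - 1), σ * τ} : Set G)) : ℂ)) ^ 2 ∧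
      (Nat.card G : ℂ) * (1 + (e : ℂ) / deg (χ : G → ℂ) + e₁ / deg (φ : G → ℂ) + e₂ / deg (ψ : G → ℂ)) =
        8 * (Nat.card (Subgroup.centralizer ({σ ^ 2 ^ (m - 1)} : Set G)) : ℂ) ^ 3 /
          ((Nat.card (Subgroup.centralizer ({σ ^ 2 ^ (m - 1), τ} : Set G)) : ℂ) *
            (Nat.card (Subgroup.centralizer ({σ ^ 2 ^ (m - 1), σ * τ} : Set G)) : ℂ)) := by
  classical
  haveI : Fact (Nat.Prime 2) := ⟨Nat.prime_two⟩
  obtain ⟨ζ, hζ⟩ : ∃ ζ : ℂ, IsPrimitiveRoot ζ (2 ^ m) :=
    ⟨_, Complex.isPrimitiveRoot_exp _ (Nat.two_pow_pos m).ne'⟩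
  obtain ⟨χ, φ, ψ, y, s, su, sv, hs, hsu, hsv, h1x, h1u, h1v, -, -, -, -, -, hcov, hvals, hreg⟩ :=
    d.principal_block hM hζ
  set q := 2 ^ m with hq
  set h := 2 ^ (m - 1) with hh
  have hhq : h + h = q := d.half
  have hh2 : 2 ≤ h := le_trans (by norm_num) (Nat.pow_le_pow_right two_pos
    (show 1 ≤ m - 1 by have := d.two_le; omega))
  have hhe : Even h := Nat.even_pow.2 ⟨even_two, by have := d.two_le; omega⟩
  have hblock : χ ∈ principalBlock M G ∧ φ ∈ principalBlock M G ∧ ψ ∈ principalBlock M G := by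
    refine ⟨?_, ?_, ?_⟩ <;>
    · refine (Finset.mem_filter.1 (show _ ∈ Finset.univ.filter (· ∈ principalBlock M G) from ?_)).2
      rw [hcov]
      simp
  obtain ⟨hne, hord⟩ := d.order_formula hM hτ hστ hblock.1 h1x.symm
    (δ := -s) (by rcases hs with rfl | rfl <;> simp) (fun l hl hl' => by
      rw [(hvals l hl hl').1]; push_cast; rfl)
  set F : G → ℂ := fun g =>
    1 - (s : ℂ) * (χ : G → ℂ) g - (su : ℂ) * (φ : G → ℂ) g - (sv : ℂ) * (ψ : G → ℂ) g with hF
  set J := σ ^ h with hJ
  have hJ2 : orderOf J = 2 := d.orderOf_J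
  have hall : ∀ t : G, orderOf t = 2 → IsConj J t := by
    intro t ht
    obtain ⟨a, ha, hc⟩ := d.conj_rotation hτ hστ (x := t) ⟨1, by rw [ht, pow_one]⟩
    have h2 : orderOf (σ ^ a) = 2 := by
      obtain ⟨c, hcc⟩ := isConj_iff.1 hc
      rw [← ht, ← hcc, ← MulAut.conj_apply, MulEquiv.orderOf_eq]
    have hsq : σ ^ a * σ ^ a = 1 := by
      have := pow_orderOf_eq_one (σ ^ a); rwa [h2, pow_two] at this
    rcases d.sq_zpowers ⟨a, zpow_natCast σ a⟩ hsq with e | e
    · rw [e, orderOf_one] at h2; omega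
    · rw [e] at hc; exact hc
  set N : G → ℕ := fun g => Nat.card {p : G × G // IsConj J p.1 ∧ IsConj J p.2 ∧ p.1 * p.2 = g} with hN
  set K := (Nat.card {x : G // IsConj J x} : ℂ) with hK
  set X := (deg (χ : G → ℂ) : ℂ) with hX
  set U := (deg (φ : G → ℂ) : ℂ) with hU
  set V := (deg (ψ : G → ℂ) : ℂ) with hV
  have hJlt : h < q := by omega
  obtain ⟨hxJ, huJ, hvJ, -⟩ := hvals h (by omega) hJlt
  rw [← hJ] at hxJ huJ hvJ
  rw [hhe.neg_one_pow, mul_one] at huJ hvJ
  have hss : (s : ℂ) * s = 1 := by rcases hs with rfl | rfl <;> norm_num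
  have hsu2 : (su : ℂ) * su = 1 := by rcases hsu with rfl | rfl <;> norm_num
  have hsv2 : (sv : ℂ) * sv = 1 := by rcases hsv with rfl | rfl <;> norm_num
  -- the first evaluation
  have hE1 : ∑ g : G, F g * (N g : ℂ) = K ^ 2 * (1 - (s : ℂ) / X - (su : ℂ) / U - (sv : ℂ) / V) := by
    have hkey : ∀ θ : IrrCharacter G, ∑ g : G, (θ : G → ℂ) g * (N g : ℂ) =
        K ^ 2 * ((θ : G → ℂ) J ^ 2 / (θ : G → ℂ) 1) := by
      intro θ
      simp only [hN, class_mult_formula, Finset.mul_sum]
      rw [Finset.sum_comm, Finset.sum_eq_single θ]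
      · have hnorm := classInner_self_irr θ.2
        rw [classInner_def] at hnorm
        calc ∑ g : G, (θ : G → ℂ) g * (K * K / (Nat.card G : ℂ) *
              ((θ : G → ℂ) J * (θ : G → ℂ) J * conj ((θ : G → ℂ) g) / (θ : G → ℂ) 1))
            = K ^ 2 * ((θ : G → ℂ) J ^ 2 / (θ : G → ℂ) 1) *
                ((Nat.card G : ℂ)⁻¹ * ∑ g : G, (θ : G → ℂ) g * conj ((θ : G → ℂ) g)) := by
              rw [Finset.mul_sum, Finset.mul_sum]
              exact Finset.sum_congr rfl fun g _ => by ring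
          _ = _ := by rw [hnorm, mul_one]
      · intro η _ hne
        have hort := classInner_irr_ne (Ne.symm hne)
        rw [classInner_def] at hort
        calc ∑ g : G, (θ : G → ℂ) g * (K * K / (Nat.card G : ℂ) *
              ((η : G → ℂ) J * (η : G → ℂ) J * conj ((η : G → ℂ) g) / (η : G → ℂ) 1))
            = K ^ 2 * ((η : G → ℂ) J ^ 2 / (η : G → ℂ) 1) *
                ((Nat.card G : ℂ)⁻¹ * ∑ g : G, (θ : G → ℂ) g * conj ((η : G → ℂ) g)) := by
              rw [Finset.mul_sum, Finset.mul_sum]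
              exact Finset.sum_congr rfl fun g _ => by ring
          _ = _ := by rw [hort, mul_zero]
      · exact fun h => absurd (Finset.mem_univ θ) h
    have h0 := hkey (principal G)
    simp only [show ∀ g, ((principal G : IrrCharacter G) : G → ℂ) g = 1 from fun g => rfl, one_mul, one_pow,
      div_one, mul_one] at h0
    simp only [hF, sub_mul, one_mul, Finset.sum_sub_distrib, mul_assoc, ← Finset.mul_sum, hkey, h0, hxJ, huJ,
      hvJ, irr_apply_one_eq_deg]
    rw [← hX, ← hU, ← hV]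
    linear_combination -(s : ℂ) * (K ^ 2 / X) * hss - (su : ℂ) * (K ^ 2 / U) * hsu2 -
      (sv : ℂ) * (K ^ 2 / V) * hsv2
  -- the odd part of the centraliser of `J`
  obtain ⟨L, hLmem, hLcard, hLdec⟩ := exists_oddPart _ d.centralizer_J.1
  have hLmem' : ∀ w, w ∈ L ↔ Commute J w ∧ ¬ 2 ∣ orderOf w := fun w => by
    rw [hLmem, Subgroup.mem_centralizer_singleton_iff]
    exact and_congr_left' ⟨fun e => e.symm, fun e => e.eq.symm⟩
  have hLodd : ∀ w ∈ L, ¬ 2 ∣ orderOf w := fun w hw => ((hLmem' w).1 hw).2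
  have hJc : ∀ p ∈ (P : Subgroup G), Commute p J := d.J_central
  have hPL : ∀ p ∈ (P : Subgroup G), ∀ w ∈ L, p * w * p⁻¹ ∈ L := by
    intro p hp w hw
    obtain ⟨e1, e2⟩ := (hLmem' w).1 hw
    refine (hLmem' _).2 ⟨?_, by rwa [← MulAut.conj_apply, MulEquiv.orderOf_eq]⟩
    have h3 : Commute (p * J * p⁻¹) (p * w * p⁻¹) := e1.map (MulAut.conj p).toMonoidHom
    rwa [(hJc p hp).eq, mul_inv_cancel_right] at h3
  set c : ℕ → ℕ := fun i => Nat.card (fixed L (σ ^ i * τ)) with hc
  have hact : ∀ i, InvAct L (σ ^ i * τ) := fun i =>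
    ⟨hPL _ (d.rot_mul i).2.2, fun w _ => by
      rw [inv_eq_of_mul_eq_one_right (d.rot_mul i).1]
      calc σ ^ i * τ * (σ ^ i * τ * w * (σ ^ i * τ)) * (σ ^ i * τ) =
            (σ ^ i * τ * (σ ^ i * τ)) * w * (σ ^ i * τ * (σ ^ i * τ)) := by group
        _ = w := by rw [(d.rot_mul i).1]; group⟩
  have hper : ∀ i, c i = c (if Even i then 0 else 1) := by
    intro i
    induction i using Nat.strong_induction_on with
    | _ i ih =>
      rcases i with _ | _ | i
      · simp
      · simp
      · have hstep : c (i + 2) = c i := by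
          refine le_antisymm ?_ ?_
          · refine card_fixed_conj (j := σ⁻¹) (hPL _ (inv_mem d.mem_left)) fun w _ => ?_
            rw [d.step_conj]; group
          · refine card_fixed_conj (j := σ) (hPL _ d.mem_left) fun w _ => ?_
            rw [d.step_conj]
        rw [hstep, ih i (by omega)]
        simp [Nat.even_add]
  set uu : ℂ := 1 / (c 0 : ℂ) with huu
  set vv : ℂ := 1 / (c 1 : ℂ) with hvv
  have hcpos : ∀ i, (c i : ℂ) ≠ 0 := fun i => Nat.cast_ne_zero.2 Nat.card_pos.ne'
  -- the pairs in one section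
  have hsection : ∀ a ∈ Finset.Icc 1 h,
      ∑ w ∈ Finset.univ.filter (fun w : G => Commute (σ ^ a) w ∧ ¬ 2 ∣ orderOf w),
        F (σ ^ a * w) * (N (σ ^ a * w) : ℂ) =
      (2 - 2 * (-1) ^ a) * ((Nat.card L : ℂ) * (Nat.card (fixed L (σ ^ a)) : ℂ) * (h : ℂ) *
        (if Even a then uu ^ 2 + vv ^ 2 else 2 * uu * vv)) ∧
      (Nat.card (Subgroup.centralizer ({σ ^ a} : Set G)) : ℂ) =
        (q : ℂ) * (if a = h then 2 else 1) * (Nat.card (fixed L (σ ^ a)) : ℂ) := by
    intro a ha
    rw [Finset.mem_Icc] at ha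
    set z := σ ^ a with hz
    have hzP : z ∈ (P : Subgroup G) := pow_mem d.mem_left a
    have hzo : ∃ k : ℕ, orderOf z = 2 ^ k := by
      obtain ⟨k, -, hk⟩ := (Nat.dvd_prime_pow Nat.prime_two).1 (d.order ▸ orderOf_pow_dvd (x := σ) a)
      exact ⟨k, hk⟩
    have hJz : J ∈ Subgroup.zpowers z := by
      -- the subgroup of `z` contains the involution
      obtain ⟨k, hk⟩ := hzo
      have hk0 : k ≠ 0 := by
        rintro rfl
        rw [pow_zero, orderOf_eq_one_iff] at hk
        have := orderOf_le_of_pow_eq_one (by omega : 0 < a) hk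
        rw [d.order] at this
        omega
      have h2 : orderOf (z ^ 2 ^ (k - 1)) = 2 := by
        rw [orderOf_pow_of_dvd (by positivity) (hk ▸ pow_dvd_pow 2 (Nat.sub_le k 1)), hk]
        rw [show (2 : ℕ) ^ k = 2 ^ (k - 1) * 2 by rw [← pow_succ]; congr 1; omega,
          Nat.mul_div_cancel_left _ (Nat.two_pow_pos _)]
      rcases d.sq_zpowers (x := z ^ 2 ^ (k - 1)) (pow_mem (Subgroup.mem_zpowers_iff.2 ⟨a, zpow_natCast σ a⟩) _)
        (by have := pow_orderOf_eq_one (z ^ 2 ^ (k - 1)); rwa [h2, pow_two] at this) with e | e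
      · rw [e, orderOf_one] at h2; omega
      · exact Subgroup.mem_zpowers_iff.2 ⟨((2 ^ (k - 1) : ℕ) : ℤ), (zpow_natCast z _).trans e⟩
    have hCC : Cfsg.HasNormalPComplement 2 (Subgroup.centralizer ({z} : Set G)) ∧
        (2 : ℕ) ^ (Nat.card (Subgroup.centralizer ({z} : Set G))).factorization 2 =
          q * (if a = h then 2 else 1) ∧
        ∃ R : Subgroup G, R ≤ Subgroup.centralizer ({z} : Set G) ∧ R ≤ (P : Subgroup G) ∧
          Nat.card R = q * (if a = h then 2 else 1) := by
      by_cases hah : a = h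
      · subst hah
        refine ⟨d.centralizer_J.1, ?_, (P : Subgroup G), fun p hp =>
          Subgroup.mem_centralizer_singleton_iff.2 (hJc p hp).eq, le_rfl, ?_⟩
        · rw [d.centralizer_J.2, if_pos rfl, pow_succ]
        · rw [d.card_sylow, if_pos rfl, pow_succ]
      · obtain ⟨e1, e2⟩ := d.centralizer_rotation (d.sq_ne (a := a) (by omega) (by omega) (by omega))
        refine ⟨e1, by rw [e2, if_neg hah, mul_one], Subgroup.zpowers σ,
          Subgroup.zpowers_le.2 (Subgroup.mem_centralizer_singleton_iff.2 ((Commute.refl σ).pow_right a).eq),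
          Subgroup.zpowers_le.2 d.mem_left, by rw [Nat.card_zpowers, d.order, if_neg hah, mul_one]⟩
    obtain ⟨hcomp, hfac, R, hRle, hRP, hRcard⟩ := hCC
    obtain ⟨La, hLa, hLacard, hLadec⟩ := exists_oddPart _ hcomp
    have hLaeq : La = fixed L z := by
      ext w
      rw [hLa, mem_fixed, hLmem', Subgroup.mem_centralizer_singleton_iff]
      constructor
      · rintro ⟨e1, e2⟩
        obtain ⟨i, hi⟩ := Subgroup.mem_zpowers_iff.1 hJz
        exact ⟨⟨hi ▸ Commute.zpow_left (e1.symm : z * w = w * z) i, e2⟩,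
          by rw [← e1, mul_inv_cancel_right]⟩
      · rintro ⟨⟨-, e2⟩, e3⟩
        exact ⟨(mul_inv_eq_iff_eq_mul.1 e3).symm, e2⟩
    have hcard : (Nat.card (Subgroup.centralizer ({z} : Set G)) : ℂ) =
        (q : ℂ) * (if a = h then 2 else 1) * (Nat.card (fixed L z) : ℂ) := by
      rw [hLacard, hfac, ← hLaeq]
      push_cast
      rfl
    refine ⟨?_, hcard⟩
    have hφ : ∀ w ∈ Finset.univ.filter (fun w : G => Commute z w ∧ ¬ 2 ∣ orderOf w),
        F (z * w) = 2 - 2 * (-1) ^ a := by
      intro w hw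
      obtain ⟨e1, e2⟩ := (Finset.mem_filter.1 hw).2
      obtain ⟨f1, f2, f3, -⟩ := hvals a (by omega) (by omega)
      simp only [hF]
      rw [apply_section_complement hM hzo hcomp e1 e2 hblock.1, apply_section_complement hM hzo hcomp e1 e2 hblock.2.1,
        apply_section_complement hM hzo hcomp e1 e2 hblock.2.2, hz, f1, f2, f3]
      linear_combination hss - (-1 : ℂ) ^ a * hsu2 - (-1 : ℂ) ^ a * hsv2
    rw [Finset.sum_congr rfl fun w hw => by rw [hφ w hw], ← Finset.mul_sum, ← Nat.cast_sum]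
    congr 1
    have hsum : ∑ w ∈ Finset.univ.filter (fun w : G => Commute z w ∧ ¬ 2 ∣ orderOf w), N (z * w) =
        ∑ i : Fin (2 ^ m), Nat.card (inverted La (σ ^ (i : ℕ) * τ)) ^ 2 := by
      have hLa' : ∀ w, w ∈ La ↔ Commute z w ∧ ¬ 2 ∣ orderOf w := fun w => by
        rw [hLa, Subgroup.mem_centralizer_singleton_iff]
        exact and_congr_left' ⟨fun e => e.symm, fun e => e.eq.symm⟩
      rw [← d.card_section_pairs (by omega) (by omega) La hLa' (fun w hw => by
        obtain ⟨l, hl, r, hr, he⟩ := hLadec R hRle (P.2.to_le hRP) (by rw [hRcard, hfac]) w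
          (Subgroup.mem_centralizer_singleton_iff.2 hw.symm.eq)
        exact ⟨l, hl, r, hRP hr, he⟩), Nat.card_sigma]
      rw [Finset.sum_subtype (p := fun w => w ∈ La) _ (fun w => by simp [hLa'])]
      exact Finset.sum_congr rfl fun w _ => card_pairs_eq hJ2 hall _
    rw [hsum, Nat.cast_sum]
    have hterm : ∀ i : ℕ, ((Nat.card (inverted La (σ ^ i * τ)) ^ 2 : ℕ) : ℂ) =
        (Nat.card L : ℂ) * (Nat.card (fixed L z) : ℂ) *
          ((1 / (c i : ℂ)) * (1 / (c (i + (q - a)) : ℂ))) := by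
      intro i
      have hrz : σ ^ i * τ * z * (σ ^ i * τ)⁻¹ = z⁻¹ :=
        (d.reflection (d.rot_mul i).2.2 (d.rot_mul i).2.1).2 z ⟨a, zpow_natCast σ a⟩
      have hsplit := card_inverted_mul_card_fixed (L := La) (fun w hw => ((hLa w).1 hw).2)
        (r := σ ^ i * τ) (by
          rw [hLaeq]
          refine ⟨fun w hw => ?_, fun w hw => (hact i).invol w (mem_fixed.1 hw).1⟩
          obtain ⟨w1, w2⟩ := mem_fixed.1 hw
          refine mem_fixed.2 ⟨(hact i).mem w w1, ?_⟩
          have hcz : Commute z w := mul_inv_eq_iff_eq_mul.1 w2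
          have h3 : Commute ((σ ^ i * τ) * z * (σ ^ i * τ)⁻¹) ((σ ^ i * τ) * w * (σ ^ i * τ)⁻¹) :=
            hcz.map (MulAut.conj (σ ^ i * τ)).toMonoidHom
          rw [hrz] at h3
          have h4 : Commute z ((σ ^ i * τ) * w * (σ ^ i * τ)⁻¹) := by simpa using h3.inv_left
          rw [h4.eq, mul_inv_cancel_right])
      have hdih := dihedral_formula m L hLodd (σ ^ i * τ) z (hact i) (hPL z hzP) hrz (fun w _ => by
        rw [hz, ← pow_mul, mul_comm, pow_mul, ← d.order, pow_orderOf_eq_one, one_pow, one_mul, inv_one, mul_one])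
      have hshift : σ ^ i * τ * z = σ ^ (i + (q - a)) * τ := by
        have e := d.pow_neg (show a < 2 ^ m by omega)
        rw [Nat.mod_eq_of_lt (by omega : 2 ^ m - a < 2 ^ m)] at e
        rw [pow_add, e]
        calc σ ^ i * τ * z = σ ^ i * (τ * z * τ⁻¹) * τ := by group
          _ = _ := by rw [hz, d.tau_pow]
      have hd : fixed (fixed L z) (σ ^ i * τ) = fixed (fixed L (σ ^ i * τ)) z := by
        ext w; simp only [mem_fixed]; tauto
      rw [hshift] at hdih
      rw [hLaeq, hd] at hsplit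
      rw [hLaeq]
      set D := Nat.card (fixed (fixed L (σ ^ i * τ)) z)
      set I := Nat.card (inverted (fixed L z) (σ ^ i * τ))
      have hdih' : (Nat.card L : ℂ) * (D : ℂ) ^ 2 =
          (c i : ℂ) * (c (i + (q - a)) : ℂ) * (Nat.card (fixed L z) : ℂ) := by exact_mod_cast hdih
      have hsplit' : (I : ℂ) * (D : ℂ) = (Nat.card (fixed L z) : ℂ) := by exact_mod_cast hsplit
      have hD : (D : ℂ) ≠ 0 := Nat.cast_ne_zero.2 Nat.card_pos.ne'
      push_cast
      rw [← hsplit'] at hdih' ⊢
      have hI : (I : ℂ) ≠ 0 := by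
        intro h0
        rw [h0, zero_mul] at hdih'
        simp [hcpos, hD] at hdih'
      field_simp [hcpos i, hcpos (i + (q - a))]
      apply mul_left_cancel₀ hD
      linear_combination -hdih'
    rw [Finset.sum_congr rfl fun (i : Fin (2 ^ m)) _ => hterm i, ← Finset.mul_sum, mul_assoc _ (h : ℂ)]
    congr 1
    have hqe : Even q := ⟨h, hhq.symm⟩
    have hpar : ∀ i : ℕ, Even (i + (q - a)) ↔ (Even i ↔ Even a) := fun i => by
      rw [Nat.even_add, Nat.even_sub (by omega)]
      simp [hqe]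
    rw [Fin.sum_univ_eq_sum_range (fun i => 1 / (c i : ℂ) * (1 / (c (i + (q - a)) : ℂ)))]
    have hval' : ∀ i : ℕ, 1 / (c i : ℂ) * (1 / (c (i + (q - a)) : ℂ)) =
        if Even i then (if Even a then uu ^ 2 else uu * vv) else (if Even a then vv ^ 2 else uu * vv) := by
      intro i
      rw [hper i, hper (i + (q - a))]
      by_cases h1 : Even i <;> by_cases h2 : Even a <;>
        simp only [hpar, h1, h2, if_true, if_false, iff_self, iff_false, false_iff, iff_true, true_iff,
          not_true, not_false_eq_true, huu, hvv] <;> ring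
    rw [Finset.sum_congr rfl fun i _ => hval' i]
    have hcount : ∀ A B : ℂ, ∀ n : ℕ, ∑ i ∈ Finset.range (n + n), (if Even i then A else B) =
        (n : ℂ) * (A + B) := by
      intro A B n
      induction n with
      | zero => simp
      | succ n ih =>
        rw [show n + 1 + (n + 1) = n + n + 1 + 1 by ring, Finset.sum_range_succ, Finset.sum_range_succ, ih,
          if_pos ⟨n, rfl⟩, if_neg (by simp [Nat.even_add_one])]
        push_cast; ring
    rw [← hq, ← hhq, hcount]
    by_cases h2 : Even a <;> simp only [h2, if_true, if_false] <;> ring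
  -- the second evaluation
  have hE2 : ∑ g : G, F g * (N g : ℂ) = (Nat.card G : ℂ) * (Nat.card L : ℂ) * (q : ℂ) * (uu * vv) := by
    rw [sum_sections (Finset.Icc 1 h) (fun a => σ ^ a) (fun a _ => by
        obtain ⟨k, -, hk⟩ := (Nat.dvd_prime_pow Nat.prime_two).1 (d.order ▸ orderOf_pow_dvd (x := σ) a)
        exact ⟨k, hk⟩)
      (fun a ha b hb hc => d.rotation_reps (Finset.mem_Icc.1 ha).1 (Finset.mem_Icc.1 ha).2
        (Finset.mem_Icc.1 hb).1 (Finset.mem_Icc.1 hb).2 hc) (fun g => F g * (N g : ℂ))]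
    · rw [Finset.sum_congr rfl fun a ha => by
        obtain ⟨e1, e2⟩ := hsection a ha
        rw [e1]]
      have hclass : ∀ a ∈ Finset.Icc 1 h, (Nat.card {x : G // IsConj (σ ^ a) x} : ℂ) *
          (Nat.card (fixed L (σ ^ a)) : ℂ) = (Nat.card G : ℂ) / (2 * (q : ℂ)) * (if a = h then 1 else 2) := by
        intro a ha
        have hq0 : (q : ℂ) ≠ 0 := Nat.cast_ne_zero.2 (Nat.two_pow_pos m).ne'
        rw [show (Nat.card G : ℂ) = (Nat.card {x : G // IsConj (σ ^ a) x} : ℂ) *
          (Nat.card (Subgroup.centralizer ({σ ^ a} : Set G)) : ℂ) by exact_mod_cast (card_isConj_mul _).symm,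
          (hsection a ha).2]
        split_ifs <;> field_simp
      rw [Finset.sum_congr rfl (g := fun a => (Nat.card G : ℂ) / (2 * (q : ℂ)) * ((Nat.card L : ℂ) * (h : ℂ)) *
          (if Even a then 0 else 16 * uu * vv)) (fun a ha => by
        have hh1 : Odd a → a ≠ h := fun ho e => Nat.not_even_iff_odd.2 ho (e ▸ hhe)
        rcases Nat.even_or_odd a with he | ho
        · simp [if_pos he, he.neg_one_pow]
        · have := hclass a ha
          rw [if_neg (hh1 ho)] at this
          simp only [if_neg (Nat.not_even_iff_odd.2 ho), ho.neg_one_pow]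
          linear_combination (8 * uu * vv * (Nat.card L : ℂ) * (h : ℂ)) * this),
        ← Finset.mul_sum]
      have hcount : ∀ (A : ℂ) (n : ℕ), ∑ a ∈ Finset.Icc 1 (n + n), (if Even a then 0 else A) = (n : ℂ) * A := by
        intro A n
        induction n with
        | zero => simp
        | succ n ih =>
          rw [show n + 1 + (n + 1) = n + n + 1 + 1 by ring, Finset.sum_Icc_succ_top (by omega),
            Finset.sum_Icc_succ_top (by omega), ih,
            if_neg (show ¬ Even (n + n + 1) by simp [Nat.even_add_one]),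
            if_pos (show Even (n + n + 1 + 1) from ⟨n + 1, by ring⟩)]
          push_cast; ring
      obtain ⟨n, hn⟩ := hhe
      rw [hn, hcount]
      have hq0 : (q : ℂ) ≠ 0 := Nat.cast_ne_zero.2 (Nat.two_pow_pos m).ne'
      have : (q : ℂ) = 4 * (n : ℂ) := by rw [← hhq, hn]; push_cast; ring
      field_simp
      rw [this]; push_cast; ring
    · intro c' g
      have e : N (c' * g * c'⁻¹) = N g := by
        apply Nat.cast_injective (R := ℂ)
        simp only [hN, class_mult_formula]
        congr 1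
        exact Finset.sum_congr rfl fun θ _ => by rw [isClassFunction_irr θ]
      simp only [hF, e]
      rw [isClassFunction_irr χ g c', isClassFunction_irr φ g c', isClassFunction_irr ψ g c']
    · intro g hg
      have hgodd : ¬ 2 ∣ orderOf g := by
        obtain ⟨z, hz⟩ := exists_isPPart' (p := 2) Nat.prime_two g
        obtain ⟨-, -, -, hzo, -⟩ := id hz
        obtain ⟨a, ha, hca⟩ := d.conj_rotation hτ hστ hzo
        rcases Nat.eq_zero_or_pos a with rfl | ha0
        · rw [pow_zero, isConj_one_right] at hca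
          exact (isPPart_one_iff Nat.prime_two).1 (hca ▸ hz)
        · exfalso
          by_cases hah : a ≤ h
          · exact hg a (Finset.mem_Icc.2 ⟨ha0, hah⟩) z hz hca
          · refine hg (q - a) (Finset.mem_Icc.2 ⟨by omega, by omega⟩) z hz (IsConj.trans ?_ hca)
            show IsConj (σ ^ (q - a)) (σ ^ a)
            have e := d.pow_neg ha
            rw [Nat.mod_eq_of_lt (by omega : 2 ^ m - a < 2 ^ m)] at e
            rw [e, ← d.tau_pow]
            exact (isConj_iff.2 ⟨τ, rfl⟩ : IsConj (σ ^ a) (τ * σ ^ a * τ⁻¹)).symm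
      have hr := (hreg g hgodd).1
      simp only [hF]
      linear_combination (-(N g : ℂ)) * hr
  -- the centralisers of the four-groups
  have hfour : ∀ i, (Nat.card (Subgroup.centralizer ({J, σ ^ i * τ} : Set G)) : ℂ) = 4 * (c i : ℂ) := by
    intro i
    obtain ⟨hr2, hrσ, hrP⟩ := d.rot_mul i
    set r := σ ^ i * τ with hr
    set R := (P : Subgroup G) ⊓ Subgroup.centralizer ({r} : Set G) with hR
    have hJ1 : J ≠ 1 := fun e => by rw [e, orderOf_one] at hJ2; omega
    have hJJ : J * J = 1 := by rw [← pow_two, hJ, d.J_sq]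
    have hJσ : J ∈ Subgroup.zpowers σ := ⟨h, zpow_natCast σ h⟩
    have hRc : Nat.card R = 4 := by
      have hset : (R : Set G) = {1, J, r, J * r} := by
        ext w
        simp only [hR, Subgroup.coe_inf, Set.mem_inter_iff, SetLike.mem_coe,
          Subgroup.mem_centralizer_singleton_iff, Set.mem_insert_iff, Set.mem_singleton_iff]
        constructor
        · rintro ⟨hwP, hwr⟩
          have hinv := (d.reflection hrP hrσ).2
          by_cases hwσ : w ∈ Subgroup.zpowers σ
          · have h1 := hinv w hwσ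
            rw [← hwr, mul_inv_cancel_right] at h1
            rcases d.sq_zpowers hwσ (by nth_rw 2 [h1]; exact mul_inv_cancel w) with e | e
            · exact Or.inl e
            · exact Or.inr (Or.inl e)
          · have h1 := (d.cases w hwP).resolve_left hwσ
            have h2 := (d.cases r hrP).resolve_left hrσ
            have h3 : w * r ∈ Subgroup.zpowers σ := by
              have := mul_mem h1 (inv_mem h2)
              rwa [show w * τ * (r * τ)⁻¹ = w * r⁻¹ by group, inv_eq_of_mul_eq_one_right hr2] at this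
            have hc : Commute r (w * r) := (Commute.mul_right (hwr.symm : r * w = w * r) (Commute.refl r))
            have h4 := hinv _ h3
            rw [hc.eq, mul_inv_cancel_right] at h4
            rcases d.sq_zpowers h3 (by nth_rw 2 [h4]; exact mul_inv_cancel _) with e | e
            · exact Or.inr (Or.inr (Or.inl (by rw [eq_inv_of_mul_eq_one_left e, inv_eq_of_mul_eq_one_right hr2])))
            · exact Or.inr (Or.inr (Or.inr (by rw [show J = w * r from e.symm, mul_assoc, hr2, mul_one])))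
        · have hJr : Commute J r := (hJc r hrP).symm
          rintro (rfl | rfl | rfl | rfl)
          · exact ⟨one_mem _, by simp⟩
          · exact ⟨pow_mem d.mem_left _, hJr.eq⟩
          · exact ⟨hrP, rfl⟩
          · exact ⟨mul_mem (pow_mem d.mem_left _) hrP, (hJr.mul_left (Commute.refl r)).eq⟩
      rw [← SetLike.coe_sort_coe, Nat.card_coe_set_eq, hset,
        Set.ncard_insert_of_notMem (by
          simp only [Set.mem_insert_iff, Set.mem_singleton_iff, not_or]
          refine ⟨hJ1.symm, fun e => hrσ (e ▸ one_mem _), fun e => hrσ ?_⟩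
          rw [eq_inv_of_mul_eq_one_right e.symm]; exact inv_mem hJσ) (Set.toFinite _),
        Set.ncard_insert_of_notMem (by
          simp only [Set.mem_insert_iff, Set.mem_singleton_iff, not_or]
          exact ⟨fun e => hrσ (e ▸ hJσ), fun e => hrσ ((mul_eq_left.1 e.symm) ▸ one_mem _)⟩) (Set.toFinite _),
        Set.ncard_pair (fun e => hJ1 (mul_eq_right.1 e.symm))]
    have hmul : Nat.card (Subgroup.centralizer ({J, r} : Set G)) = Nat.card (fixed L r) * Nat.card R := by
      rw [← Nat.card_prod]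
      have hcom : ∀ w, w ∈ Subgroup.centralizer ({J, r} : Set G) ↔ Commute J w ∧ Commute r w := by
        intro w
        simp only [Subgroup.mem_centralizer_iff, Set.mem_insert_iff, Set.mem_singleton_iff]
        exact ⟨fun h => ⟨h J (Or.inl rfl), h r (Or.inr rfl)⟩, fun h g hg => by
          rcases hg with rfl | rfl
          · exact h.1
          · exact h.2⟩
      have hmemf : ∀ l, l ∈ fixed L r → Commute J l ∧ Commute r l := fun l hl =>
        ⟨((hLmem' l).1 (mem_fixed.1 hl).1).1, mul_inv_eq_iff_eq_mul.1 (mem_fixed.1 hl).2⟩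
      have hmemR : ∀ p, p ∈ R → Commute J p ∧ Commute r p := fun p hp =>
        ⟨(hJc p hp.1).symm, (Subgroup.mem_centralizer_singleton_iff.1 hp.2).symm⟩
      have htriv : ∀ p ∈ (P : Subgroup G), p ∈ L → p = 1 := fun p hp hpL => by
        obtain ⟨k, hk⟩ := IsPGroup.iff_orderOf.1 P.2 ⟨p, hp⟩
        rw [Subgroup.orderOf_mk] at hk
        rcases k with _ | k
        · rwa [pow_zero, orderOf_eq_one_iff] at hk
        · exact absurd (hk ▸ dvd_pow_self 2 k.succ_ne_zero) (hLodd p hpL)
      refine (Nat.card_congr (Equiv.ofBijective (fun z : fixed L r × R =>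
        (⟨(z.1 : G) * (z.2 : G), (hcom _).2 ⟨(hmemf _ z.1.2).1.mul_right (hmemR _ z.2.2).1,
          (hmemf _ z.1.2).2.mul_right (hmemR _ z.2.2).2⟩⟩ :
            Subgroup.centralizer ({J, r} : Set G))) ⟨?_, ?_⟩)).symm
      · rintro ⟨⟨l, hl⟩, ⟨p, hp⟩⟩ ⟨⟨l', hl'⟩, ⟨p', hp'⟩⟩ e
        have e' : l * p = l' * p' := congrArg Subtype.val e
        have e'' : l'⁻¹ * l = p' * p⁻¹ := by
          rw [inv_mul_eq_iff_eq_mul, ← mul_assoc, ← e', mul_inv_cancel_right]
        have := htriv _ (mul_mem hp'.1 (inv_mem hp.1))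
          (e'' ▸ mul_mem (inv_mem (mem_fixed.1 hl').1) (mem_fixed.1 hl).1)
        rw [mul_inv_eq_one] at this
        subst this
        obtain rfl := mul_right_cancel e'
        rfl
      · rintro ⟨w, hw⟩
        obtain ⟨e1, e2⟩ := (hcom w).1 hw
        obtain ⟨l, hl, p, hp, rfl⟩ := hLdec (P : Subgroup G) (fun p hp =>
          Subgroup.mem_centralizer_singleton_iff.2 (hJc p hp).eq) P.2
          (by rw [d.card_sylow, d.centralizer_J.2]) w (Subgroup.mem_centralizer_singleton_iff.2 e1.symm.eq)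
        have e3 : r * (l * p) * r⁻¹ = l * p := by rw [e2.eq, mul_inv_cancel_right]
        have e4 : l⁻¹ * (r * l * r⁻¹) = p * (r * p * r⁻¹)⁻¹ := by
          calc l⁻¹ * (r * l * r⁻¹) = l⁻¹ * (r * (l * p) * r⁻¹) * (r * p * r⁻¹)⁻¹ := by group
            _ = _ := by rw [e3]; group
        have e5 := htriv _ (mul_mem hp (inv_mem (mul_mem (mul_mem hrP hp) (inv_mem hrP))))
          (e4 ▸ mul_mem (inv_mem hl) (hPL r hrP l hl))
        have hrl : r * l * r⁻¹ = l := by
          rw [e5] at e4
          exact (inv_mul_eq_one.1 e4).symm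
        have hrp : r * p * r⁻¹ = p := (mul_inv_eq_one.1 e5).symm
        exact ⟨(⟨l, mem_fixed.2 ⟨hl, hrl⟩⟩, ⟨p, hp, Subgroup.mem_centralizer_singleton_iff.2
          (mul_inv_eq_iff_eq_mul.1 hrp).symm⟩), rfl⟩
    rw [hmul, hRc]
    push_cast
    ring
  have hcJ : (Nat.card (Subgroup.centralizer ({J} : Set G)) : ℂ) = 2 * (q : ℂ) * (Nat.card L : ℂ) := by
    rw [hJ, hLcard, d.centralizer_J.2, hq]
    push_cast
    ring
  have hGK : (Nat.card G : ℂ) = K * (2 * (q : ℂ) * (Nat.card L : ℂ)) := by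
    rw [← hcJ, hK]; exact_mod_cast (card_isConj_mul J).symm
  have hrel := (hreg 1 (by rw [orderOf_one]; norm_num)).1
  rw [irr_apply_one_eq_deg, irr_apply_one_eq_deg, irr_apply_one_eq_deg] at hrel
  refine ⟨χ, φ, ψ, -s, -su, -sv, by rcases hs with rfl | rfl <;> simp, by rcases hsu with rfl | rfl <;> simp,
    by rcases hsv with rfl | rfl <;> simp, h1x.symm, h1u.symm, h1v.symm, ?_, ?_, ?_, ?_⟩
  · push_cast
    linear_combination -hrel
  · exact hne
  · exact hord
  · have heq := hE1.symm.trans hE2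
    have hL0 : (Nat.card L : ℂ) ≠ 0 := Nat.cast_ne_zero.2 Nat.card_pos.ne'
    have hq0 : (q : ℂ) ≠ 0 := Nat.cast_ne_zero.2 (Nat.two_pow_pos m).ne'
    have hG0 : (Nat.card G : ℂ) ≠ 0 := Nat.cast_ne_zero.2 Nat.card_pos.ne'
    have hK0 : K ≠ 0 := fun e => hG0 (by rw [hGK, e, zero_mul])
    have e0 := hfour 0
    have e1 := hfour 1
    rw [pow_zero, one_mul] at e0
    rw [pow_one] at e1
    rw [e0, e1, hcJ]
    have hS : K * (1 - (s : ℂ) / X - (su : ℂ) / U - (sv : ℂ) / V) =
        2 * (q : ℂ) ^ 2 * (Nat.card L : ℂ) ^ 2 * (uu * vv) := by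
      apply mul_left_cancel₀ hK0
      rw [hGK] at heq
      linear_combination heq
    have hsig : (1 + ((-s : ℤ) : ℂ) / X + ((-su : ℤ) : ℂ) / U + ((-sv : ℤ) : ℂ) / V) =
        1 - (s : ℂ) / X - (su : ℂ) / U - (sv : ℂ) / V := by push_cast; ring
    rw [hsig, hGK, mul_right_comm, hS, huu, hvv]
    have := hcpos 0
    have := hcpos 1
    field_simp
    ring

end Cfsg.Lib.Dihedral
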