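import Cfsg.Agent.Chars.LargestDegreeTools

/-!
# A non-abelian simple group has no non-principal irreducible character of degree at most two
-/

set_option autoImplicit false
set_option linter.unusedSectionVars false

namespace Cfsg.Lib.GWD

open Cfsg.Lib.Chars

universe u

theorem three_le_deg {G : Type u} [Group G] [Fintype G] [IsSimpleGroup G] (hna : ¬ IsMulCommutative G)
    (χ : Cfsg.IrrCharacter G) (hχ : χ ≠ principal G) : 3 ≤ deg (χ : G → ℂ) := by
  classical
  have hab : ¬ ∀ x y : G, x * y = y * x := fun h => hna ⟨⟨h⟩⟩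
  have hhom : ∀ f : G →* ℂˣ, f = 1 := fun f => by
    rcases IsSimpleGroup.eq_bot_or_eq_top_of_normal f.ker inferInstance with h | h
    · exact absurd (fun x y => (MonoidHom.ker_eq_bot_iff f).1 h (by rw [map_mul, map_mul, mul_comm])) hab
    · exact MonoidHom.ker_eq_top_iff.1 h
  have hd1 : deg (χ : G → ℂ) ≠ 1 := fun h1 => hχ (Subtype.ext (by
    obtain ⟨f, hf⟩ := exists_hom_of_deg_one (isCharacter_of_irr χ.2)
      (by rw [IsCharacter.apply_one_eq_deg (isCharacter_of_irr χ.2), h1, Nat.cast_one])
    rw [hf]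
    funext g
    simp [hhom f, show ((principal G : Cfsg.IrrCharacter G) : G → ℂ) g = 1 from rfl]))
  have hpos := deg_irr_pos χ
  by_contra hlt
  have hd2 : deg (χ : G → ℂ) = 2 := by omega
  haveI := Fact.mk Nat.prime_two
  obtain ⟨t, ht⟩ := exists_prime_orderOf_dvd_card' (G := G) 2 (hd2 ▸ IsIrrCharacter.deg_dvd χ.2)
  have ht1 : t ≠ 1 := fun e => by rw [e, orderOf_one] at ht; omega
  obtain ⟨n, ρ, hρ, hρc⟩ := id χ.2
  have hdn : deg (χ : G → ℂ) = n := by rw [← hρc, deg_character, Module.finrank_fin_fun]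
  obtain rfl : n = 2 := by omega
  have hdet : LinearMap.det (ρ t) = 1 := congrArg Units.val (DFunLike.congr_fun
    (hhom ((Units.map (LinearMap.det (A := ℂ) (M := Fin 2 → ℂ))).comp ρ.toHomUnits)) t)
  obtain ⟨c, hc, hval⟩ := involution_value ρ (ht ▸ pow_orderOf_eq_one t) hdet
  have hn : ‖ρ.character t‖ = ((deg ρ.character : ℕ) : ℝ) := by
    rw [deg_character, Module.finrank_fin_fun, hval]
    have hc' : c ≤ 1 := by omega
    interval_cases c <;> norm_num
  rw [deg_character] at hn
  obtain ⟨ω, hω, -⟩ := scalar_of_norm_character_eq ρ t hn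
  have hker : ρ.ker = ⊥ := by
    refine (IsSimpleGroup.eq_bot_or_eq_top_of_normal ρ.ker inferInstance).resolve_right fun htop => ?_
    have h1 := deg_dvd_index_of_le_ker (hρc ▸ χ.2) (⊤ : Subgroup G) fun a _ => by
      rw [Representation.character, Representation.character, show ρ a = 1 from (htop ▸ Subgroup.mem_top a : a ∈ ρ.ker),
        map_one ρ]
    rw [Subgroup.index_top, Nat.dvd_one, deg_character, Module.finrank_fin_fun] at h1
    omega
  have hcen : t ∈ Subgroup.center G := by
    rw [Subgroup.mem_center_iff]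
    intro x
    apply (MonoidHom.ker_eq_bot_iff ρ).1 hker
    rw [map_mul, map_mul, hω]
    ext v
    simp
  rcases IsSimpleGroup.eq_bot_or_eq_top_of_normal (Subgroup.center G) inferInstance with h | h
  · rw [h, Subgroup.mem_bot] at hcen; exact ht1 hcen
  · exact hab fun x y => (Subgroup.mem_center_iff.1 (h ▸ Subgroup.mem_top x : x ∈ Subgroup.center G) y).symm

end Cfsg.Lib.GWD
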