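import Cfsg.Agent.GWDihedral.Basic
import Cfsg.Agent.GWDihedral.Ident.DegTwo
import Cfsg.Agent.GenDihedral.Formula

/-!
Simple groups with dihedral Sylow 2-subgroups: the two identities of the principal block at a frame, and the bounds
they give.
-/

set_option autoImplicit false
set_option linter.unusedSectionVars false
set_option linter.style.haveILetI false

namespace Cfsg.Lib.GWD

open Subgroup
open Cfsg.Lib.GW (Core)
open Cfsg.Lib.GenDihedral (mem_of_sq mul_self_of_two inv_of_two)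

universe u

variable {G : Type u} [Group G] [Finite G]

/-- The lower bound `3/8` in the second identity. -/
theorem second_lower {ξ D E : ℤ} (h8 : 8 ∣ ξ - 1) (h1 : ξ ≠ 1) (hD : 3 ≤ |D|) (hE : 3 ≤ |E|)
    (hsum : D + E = -(ξ + 1)) :
    3 * (ξ - 1) ^ 2 * (D * E) ^ 2 ≤ 8 * (ξ + 1) ^ 2 * (D * E - ξ) * (D * E) := by
  have hξ : 9 ≤ ξ ∨ ξ ≤ -7 := by omega
  rw [le_abs] at hD hE
  rcases hD with hD | hD <;> rcases hE with hE | hE
  · have hx : ξ ≤ -7 := by omega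
    have hP : 0 < D * E := by positivity
    have h2 : 3 * (ξ - 1) ^ 2 ≤ 8 * (ξ + 1) ^ 2 := by nlinarith
    nlinarith [mul_le_mul_of_nonneg_right h2 (mul_pos hP hP).le, mul_nonneg (sq_nonneg (ξ + 1)) hP.le]
  · have key : (D * E) ≤ -(3 * (2 - ξ)) ∧ D * E ≤ -9 ∧ D * E ≤ -(3 * (ξ + 4)) := by
      refine ⟨?_, by nlinarith, ?_⟩ <;> nlinarith
    rcases hξ with hx | hx
    · have h2 : 3 * (ξ - 1) ^ 2 ≤ 8 * (ξ + 1) ^ 2 := by nlinarith
      have hDE : 0 ≤ (D * E) * (D * E) := mul_self_nonneg _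
      nlinarith [mul_le_mul_of_nonneg_right h2 hDE, mul_nonneg (sq_nonneg (ξ + 1)) (show 0 ≤ -(D * E) by omega)]
    · have h2 : 9 * (ξ - 1) ^ 2 ≤ 16 * (ξ + 1) ^ 2 := by nlinarith
      have h3 : 2 * (-(D * E)) ≤ 3 * (ξ - D * E) := by omega
      have hP : 0 ≤ -(D * E) := by omega
      nlinarith [mul_le_mul_of_nonneg_right h2 (mul_nonneg hP hP),
        mul_le_mul_of_nonneg_left h3 (mul_nonneg (sq_nonneg (ξ + 1)) hP)]
  · have key : (D * E) ≤ -(3 * (2 - ξ)) ∧ D * E ≤ -9 ∧ D * E ≤ -(3 * (ξ + 4)) := by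
      refine ⟨?_, by nlinarith, ?_⟩ <;> nlinarith
    rcases hξ with hx | hx
    · have h2 : 3 * (ξ - 1) ^ 2 ≤ 8 * (ξ + 1) ^ 2 := by nlinarith
      have hDE : 0 ≤ (D * E) * (D * E) := mul_self_nonneg _
      nlinarith [mul_le_mul_of_nonneg_right h2 hDE, mul_nonneg (sq_nonneg (ξ + 1)) (show 0 ≤ -(D * E) by omega)]
    · have h2 : 9 * (ξ - 1) ^ 2 ≤ 16 * (ξ + 1) ^ 2 := by nlinarith
      have h3 : 2 * (-(D * E)) ≤ 3 * (ξ - D * E) := by omega
      have hP : 0 ≤ -(D * E) := by omega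
      nlinarith [mul_le_mul_of_nonneg_right h2 (mul_nonneg hP hP),
        mul_le_mul_of_nonneg_left h3 (mul_nonneg (sq_nonneg (ξ + 1)) hP)]
  · have hx : 9 ≤ ξ := by omega
    have hP : 3 * (ξ - 2) ≤ D * E := by nlinarith
    have h2 : (ξ - 1) ^ 2 ≤ (ξ + 1) ^ 2 := by nlinarith
    have h3 : 3 * (D * E) ≤ 8 * (D * E - ξ) := by omega
    have hP0 : 0 ≤ D * E := by omega
    nlinarith [mul_le_mul_of_nonneg_right h2 (mul_nonneg hP0 hP0),
      mul_le_mul_of_nonneg_left h3 (mul_nonneg (sq_nonneg (ξ + 1)) hP0)]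

/-- The ratio of the two centralisers. -/
theorem ratio_lt_nine {ξ D E : ℤ} {g a b c : ℕ} (h8 : 8 ∣ ξ - 1) (h1 : ξ ≠ 1)
    (h3 : 3 ≤ |ξ| ∧ 3 ≤ |D| ∧ 3 ≤ |E|) (hsum : D + E = -(ξ + 1))
    (hord : (g : ℚ) * ((ξ : ℚ) - 1) ^ 2 * ((a : ℚ) * b) ^ 2 = 8 * (c : ℚ) ^ 3 * ((a : ℚ) + b) ^ 2 * (ξ * (ξ + 1)))
    (hsec : (g : ℚ) * (1 + 1 / (ξ : ℚ) + 1 / (D : ℚ) + 1 / (E : ℚ)) * ((a : ℚ) * b) = 32 * (c : ℚ) ^ 3)
    (ha : 0 < a) (hb : 0 < b) (hc : 0 < c) : a < 9 * b ∧ b < 9 * a := by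
  have hne : ∀ z : ℤ, 3 ≤ |z| → (z : ℚ) ≠ 0 := fun z hz e => by
    rw [Int.cast_eq_zero.1 e, abs_zero] at hz; omega
  have hξ0 := hne ξ h3.1
  have hD0 := hne D h3.2.1
  have hE0 := hne E h3.2.2
  have hs : (D : ℚ) + E = -((ξ : ℚ) + 1) := by exact_mod_cast hsum
  have h2 : (g : ℚ) * ((ξ + 1) * (D * E - ξ)) * ((a : ℚ) * b) = 32 * (c : ℚ) ^ 3 * (ξ * D * E) := by
    have e : (1 + 1 / (ξ : ℚ) + 1 / (D : ℚ) + 1 / (E : ℚ)) * (ξ * D * E) = (ξ + 1) * (D * E - ξ) := by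
      field_simp
      linear_combination (ξ : ℚ) * hs
    rw [← hsec, ← e]
    ring
  have hkey : 4 * ((D : ℚ) * E) * ((ξ : ℚ) - 1) ^ 2 * ((a : ℚ) * b) =
      ((a : ℚ) + b) ^ 2 * ((ξ : ℚ) + 1) ^ 2 * (D * E - ξ) := by
    have hc0 : (8 : ℚ) * (c : ℚ) ^ 3 * ξ ≠ 0 := mul_ne_zero (by positivity) hξ0
    refine mul_left_cancel₀ hc0 ?_
    linear_combination ((ξ : ℚ) + 1) * (D * E - ξ) * hord - ((ξ : ℚ) - 1) ^ 2 * ((a : ℚ) * b) * h2
  have hlow : 3 * ((ξ : ℚ) - 1) ^ 2 * ((D : ℚ) * E) ^ 2 ≤ 8 * ((ξ : ℚ) + 1) ^ 2 * (D * E - ξ) * (D * E) := by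
    exact_mod_cast second_lower h8 h1 h3.2.1 h3.2.2 hsum
  have hpos : 0 < ((ξ : ℚ) - 1) ^ 2 * ((D : ℚ) * E) ^ 2 := by
    have : (ξ : ℚ) - 1 ≠ 0 := sub_ne_zero.2 (by exact_mod_cast h1)
    positivity
  have h38 : 3 * ((a : ℚ) + b) ^ 2 ≤ 32 * ((a : ℚ) * b) := by
    refine le_of_mul_le_mul_right ?_ hpos
    calc 3 * ((a : ℚ) + b) ^ 2 * (((ξ : ℚ) - 1) ^ 2 * ((D : ℚ) * E) ^ 2)
        = ((a : ℚ) + b) ^ 2 * (3 * ((ξ : ℚ) - 1) ^ 2 * ((D : ℚ) * E) ^ 2) := by ring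
      _ ≤ ((a : ℚ) + b) ^ 2 * (8 * ((ξ : ℚ) + 1) ^ 2 * (D * E - ξ) * (D * E)) :=
          mul_le_mul_of_nonneg_left hlow (sq_nonneg _)
      _ = 8 * ((D : ℚ) * E) * (((a : ℚ) + b) ^ 2 * ((ξ : ℚ) + 1) ^ 2 * (D * E - ξ)) := by ring
      _ = _ := by rw [← hkey]; ring
  have h38' : 3 * (a + b) ^ 2 ≤ 32 * (a * b) := by exact_mod_cast h38
  constructor
  · by_contra h
    push Not at h
    nlinarith
  · by_contra h
    push Not at h
    nlinarith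

namespace Frame

variable (F : Frame G)

/-- The centraliser of a reflection in the Sylow subgroup is a four-group. -/
theorem S_cent {v : G} (hv : v ∈ F.S) (hvs : v ∉ zpowers F.s) {u : G} (hu : u ∈ F.S) (hc : u * v = v * u) :
    u = 1 ∨ u = F.t ∨ u = v ∨ u = F.t * v := by
  have d := F.data
  have hvP : v ∈ (F.sylow : Subgroup G) := by rwa [F.coe_sylow]
  have hinv := (d.reflection hvP hvs).2
  have key : ∀ w ∈ zpowers F.s, w * v = v * w → w = 1 ∨ w = F.t := by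
    intro w hw hwv
    have h := hinv w hw
    rw [← hwv, mul_inv_cancel_right] at h
    have := d.sq_zpowers hw (by nth_rw 2 [h]; exact mul_inv_cancel w)
    rwa [F.t_eq] at this
  rcases F.S_cases hu with h | h
  · rcases key u h hc with e | e
    · exact Or.inl e
    · exact Or.inr (Or.inl e)
  · have hv2 : v * v = 1 := (d.reflection hvP hvs).1
    rcases F.S_cases hv with h' | h'
    · exact absurd h' hvs
    have huv : u * v ∈ zpowers F.s := by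
      have := mul_mem h (inv_mem h')
      rwa [show u * F.r * (v * F.r)⁻¹ = u * v⁻¹ by group, inv_eq_of_mul_eq_one_right hv2] at this
    rcases key (u * v) huv (by rw [← mul_assoc v u v, ← hc]) with e | e
    · exact Or.inr (Or.inr (Or.inl (by rw [eq_inv_of_mul_eq_one_left e, inv_eq_of_mul_eq_one_right hv2])))
    · exact Or.inr (Or.inr (Or.inr (by rw [← e, mul_assoc, hv2, mul_one])))

/-- `C(t, v) = C_O(v) × ⟨t, v⟩` for a reflection `v`. -/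
theorem card_centralizer_four (V : Cfsg.Lib.GW.Frame G) (hVt : V.t = F.t) (hV : V.u ∈ F.S)
    (hVs : V.u ∉ zpowers F.s) : Nat.card (centralizer ({F.t, V.u} : Set G)) = 4 * Nat.card V.W := by
  have hVO : V.O = F.O := by
    rw [Cfsg.Lib.GW.Frame.O, Cfsg.Lib.GW.Frame.C, hVt]; rfl
  have hU : V.U ≤ F.S := V.U_le_iff.2 ⟨hVt ▸ F.t_mem_S, hV⟩
  have heq : centralizer ({F.t, V.u} : Set G) = V.W ⊔ V.U := by
    refine le_antisymm (fun x hx => ?_) (sup_le ?_ ?_)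
    · have hxt : x * F.t = F.t * x := (mem_centralizer_iff.1 hx F.t (Or.inl rfl)).symm
      have hxu : x * V.u = V.u * x := (mem_centralizer_iff.1 hx V.u (Or.inr rfl)).symm
      obtain ⟨l, hl, p, hp, rfl⟩ := F.C_structure x (F.mem_C.2 hxt)
      -- both factors commute with the reflection
      have hln : V.u * l * V.u⁻¹ ∈ F.O :=
        (mem_normalizer_iff.1 (F.C_le_normalizer_O (F.S_le_C hV)) l).1 hl
      have hpn : V.u * p * V.u⁻¹ ∈ F.S := mul_mem (mul_mem hV hp) (inv_mem hV)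
      have hconj : V.u * l * V.u⁻¹ * (V.u * p * V.u⁻¹) = l * p := by
        rw [conj_mul, ← hxu]; group
      obtain ⟨e1, e2⟩ := (Prod.ext_iff).1 (congrArg (fun z : F.O × F.S => ((z.1 : G), (z.2 : G)))
        (mul_injective_of_disjoint (disjoint_iff.2 F.O_inf_S)
          (a₁ := ((⟨_, hln⟩, ⟨_, hpn⟩) : F.O × F.S)) (a₂ := (⟨l, hl⟩, ⟨p, hp⟩)) hconj))
      refine mul_mem_sup (V.mem_W.2 ⟨hVO ▸ hl, (mul_inv_eq_iff_eq_mul.1 e1).symm⟩) ?_
      rcases F.S_cent hV hVs hp (mul_inv_eq_iff_eq_mul.1 e2).symm with e | e | e | e <;> rw [e]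
      · exact one_mem _
      · exact hVt ▸ V.t_mem_U
      · exact V.u_mem_U
      · exact mul_mem (hVt ▸ V.t_mem_U) V.u_mem_U
    · intro x hx
      refine mem_centralizer_iff.2 fun y hy => ?_
      rcases hy with rfl | rfl
      · exact hVt ▸ ((V.mem_centralizer_U.1 (V.W_le_centralizer_U hx)).1).symm
      · exact (V.mem_W.1 hx).2.symm
    · refine V.U_le_iff.2 ⟨?_, ?_⟩ <;>
      · refine mem_centralizer_iff.2 fun y hy => ?_
        rcases hy with rfl | rfl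
        all_goals first
          | (rw [hVt]; done)
          | rfl
          | exact hVt ▸ V.comm
          | exact hVt ▸ V.comm.symm
          | (rw [← hVt]; exact V.comm)
          | (rw [← hVt]; exact V.comm.symm)
  rw [heq, Cfsg.Lib.Coprime.card_sup_coprime, V.card_U, mul_comm]
  · intro g hg
    refine mem_normalizer_iff.2 fun x => ?_
    have hcomm : ∀ y ∈ V.W, g * y * g⁻¹ = y := fun y hy => mul_inv_eq_iff_eq_mul.2
      (mem_centralizer_iff.1 (V.W_le_centralizer_U hy) g hg)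
    refine ⟨fun hx => by rw [hcomm x hx]; exact hx, fun hx => ?_⟩
    have := hcomm _ hx
    rw [mul_left_inj, mul_right_inj] at this
    rwa [this] at hx
  · rw [V.card_U]
    exact (Nat.coprime_two_right.2 V.odd_card_W).pow_right 2

theorem rs_not_mem_zpowers : F.r * F.s ∉ zpowers F.s := fun h =>
  F.r_not_mem_zpowers ((Subgroup.mul_mem_cancel_right _ (mem_zpowers F.s)).1 h)

theorem card_cent₁ : Nat.card (centralizer ({F.t, F.r} : Set G)) = 4 * F.w₁ :=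
  F.card_centralizer_four F.four₁ rfl F.r_mem_S F.r_not_mem_zpowers

theorem card_cent₂ : Nat.card (centralizer ({F.t, F.r * F.s} : Set G)) = 4 * F.w₂ :=
  F.card_centralizer_four F.four₂ rfl (mul_mem F.r_mem_S F.s_mem_S) F.rs_not_mem_zpowers

theorem card_cent_sr : Nat.card (centralizer ({F.t, F.s * F.r} : Set G)) = 4 * F.w₂ := by
  rw [← F.card_cent₂]
  refine Nat.card_congr (Equiv.subtypeEquiv (MulAut.conj F.s⁻¹).toEquiv fun x => ?_)
  have h1 : F.s⁻¹ * F.t * F.s = F.t := by rw [mul_assoc, ← F.S_comm_t F.s_mem_S, inv_mul_cancel_left]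
  have h2 : F.s⁻¹ * (F.s * F.r) * F.s = F.r * F.s := by group
  have key : ∀ a : G, Commute a x ↔ Commute (F.s⁻¹ * a * F.s) (F.s⁻¹ * x * F.s) := fun a => by
    constructor
    · intro h
      simpa using h.map (MulAut.conj F.s⁻¹).toMonoidHom
    · intro h
      simpa [mul_assoc] using h.map (MulAut.conj F.s).toMonoidHom
  simp only [mem_centralizer_iff, Set.mem_insert_iff, Set.mem_singleton_iff, forall_eq_or_imp, forall_eq,
    MulEquiv.toEquiv_eq_coe, MulEquiv.coe_toEquiv, MulAut.conj_apply, inv_inv]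
  have k1 := key F.t
  have k2 := key (F.s * F.r)
  rw [h1] at k1
  rw [h2] at k2
  exact and_congr k1 k2

theorem w₁_pos : 0 < F.w₁ := Nat.card_pos

theorem w₂_pos : 0 < F.w₂ := Nat.card_pos

theorem m_pos : 0 < F.m := Nat.mul_pos (Nat.two_pow_pos _) Nat.card_pos

/-- The data of the principal block. -/
theorem degreeSpec (hm : Minimal G) : F.DegreeSpec := by
  letI := Fintype.ofFinite G
  haveI := hm.simple
  obtain ⟨M, hM⟩ := Cfsg.Lib.Blocks.exists_isPModular (p := 2) Nat.prime_two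
  have d := F.data
  have hsr : orderOf (F.s * F.r) = 2 := by
    rw [show F.s * F.r = MulAut.conj F.s (F.r * F.s) by simp [mul_assoc], MulEquiv.orderOf_eq, F.rs_order]
  obtain ⟨χ, φ, ψ, e, e₁, e₂, he, he₁, he₂, hχ, hφ, hψ, hrel, hne, hord, hsec⟩ := d.two_identities hM
    (F.t_eq ▸ hm.one_class F.t_order F.r_order) (F.t_eq ▸ hm.one_class F.t_order hsr)
  have hC : Nat.card (centralizer ({F.t} : Set G)) = 4 * F.m := F.card_C
  rw [F.t_eq, F.card_cent₁, F.card_cent_sr, hC] at hord hsec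
  set X := Cfsg.Lib.Chars.deg (χ : G → ℂ) with hX
  set U := Cfsg.Lib.Chars.deg (φ : G → ℂ) with hU
  set V := Cfsg.Lib.Chars.deg (ψ : G → ℂ) with hV
  have h1 : (F.w₁ : ℂ) ≠ 0 := Nat.cast_ne_zero.2 F.w₁_pos.ne'
  have h2 : (F.w₂ : ℂ) ≠ 0 := Nat.cast_ne_zero.2 F.w₂_pos.ne'
  have hee : (e : ℂ) * e = 1 := by rcases he with rfl | rfl <;> norm_num
  have hee₁ : (e₁ : ℂ) * e₁ = 1 := by rcases he₁ with rfl | rfl <;> norm_num
  have hee₂ : (e₂ : ℂ) * e₂ = 1 := by rcases he₂ with rfl | rfl <;> norm_num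
  have hX3 := three_le_deg hm.nonab χ hχ
  have habs : ∀ (a : ℤ) (n : ℕ), (a = 1 ∨ a = -1) → |a * (n : ℤ)| = n := by
    rintro a n (rfl | rfl) <;> simp
  have hdvd : ∀ (a : ℤ) (θ : Cfsg.IrrCharacter G), (a = 1 ∨ a = -1) →
      a * (Cfsg.Lib.Chars.deg (θ : G → ℂ) : ℤ) ∣ (Nat.card G : ℤ) := by
    intro a θ ha
    have h := Int.natCast_dvd_natCast.2 (Cfsg.Lib.Chars.IsIrrCharacter.deg_dvd θ.2)
    rcases ha with rfl | rfl
    · rwa [one_mul]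
    · rwa [neg_one_mul, neg_dvd]
  have horder : (Nat.card G : ℚ) * (((e * (X : ℤ) : ℤ) : ℚ) - 1) ^ 2 * ((F.w₁ : ℚ) * F.w₂) ^ 2 =
      8 * (F.m : ℚ) ^ 3 * (F.w₁ + F.w₂) ^ 2 * ((e * (X : ℤ) : ℤ) * (((e * (X : ℤ) : ℤ) : ℚ) + 1)) := by
    apply Rat.cast_injective (α := ℂ)
    push_cast at hord ⊢
    have h' : (Nat.card G : ℂ) * ((X : ℂ) - e) ^ 2 * ((F.w₁ : ℂ) * F.w₂) ^ 2 =
        8 * (F.m : ℂ) ^ 3 * ((F.w₁ : ℂ) + F.w₂) ^ 2 * ((X : ℂ) * ((X : ℂ) + e)) := by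
      rw [hord]
      field_simp
      ring
    linear_combination h' + ((Nat.card G : ℂ) * ((F.w₁ : ℂ) * F.w₂) ^ 2 * ((X : ℂ) ^ 2 - 1) -
      8 * (F.m : ℂ) ^ 3 * ((F.w₁ : ℂ) + F.w₂) ^ 2 * (X : ℂ) ^ 2) * hee
  refine ⟨e * X, e₁ * U, e₂ * V, ⟨?_, ?_, ⟨?_, ?_, ?_⟩, ?_, ⟨hdvd e χ he, hdvd e₁ φ he₁, hdvd e₂ ψ he₂⟩, horder,
    ?_⟩⟩
  · -- the congruence from the order formula
    set n2 := F.n - 2
    obtain ⟨g, hg, hgo⟩ : ∃ g : ℕ, Nat.card G = 2 ^ F.n * g ∧ Odd g := by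
      refine ⟨(F.sylow : Subgroup G).index, ?_, ?_⟩
      · rw [← F.card_sylow F.sylow, Subgroup.card_mul_index]
      · haveI : Fact (Nat.Prime 2) := ⟨Nat.prime_two⟩
        exact Nat.not_even_iff_odd.1 fun h => F.sylow.not_dvd_index h.two_dvd
    have hz : ((2 : ℤ) ^ F.n * g) * (((e * (X : ℤ)) - 1) ^ 2 * ((F.w₁ : ℤ) * F.w₂) ^ 2) =
        8 * ((2 : ℤ) ^ n2 * Nat.card F.O) ^ 3 * ((F.w₁ : ℤ) + F.w₂) ^ 2 * ((e * (X : ℤ)) * ((e * (X : ℤ)) + 1)) := by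
      apply Int.cast_injective (α := ℚ)
      rw [hg, Frame.m] at horder
      push_cast at horder ⊢
      linear_combination horder
    obtain ⟨v, hv⟩ : (2 : ℤ) ∣ (F.w₁ : ℤ) + F.w₂ := by
      have := (F.four₁.odd_card_W.add_odd F.four₂.odd_card_W).two_dvd
      exact_mod_cast this
    obtain ⟨k, hk⟩ : ∃ k, F.n = k + 3 := ⟨F.n - 3, by have := F.three_le; omega⟩
    rw [hv, show n2 = k + 1 by omega, hk] at hz
    have h32 : (32 : ℤ) ∣ (g : ℤ) * (((e * (X : ℤ)) - 1) ^ 2 * ((F.w₁ : ℤ) * F.w₂) ^ 2) := by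
      refine ⟨((2 : ℤ) ^ k) ^ 2 * ((Nat.card F.O : ℤ)) ^ 3 * v ^ 2 * ((e * (X : ℤ)) * ((e * (X : ℤ)) + 1)), ?_⟩
      refine mul_left_cancel₀ (pow_ne_zero (k + 3) (two_ne_zero : (2 : ℤ) ≠ 0)) ?_
      rw [pow_add] at hz ⊢
      linear_combination hz
    have hodd : Odd (g * (F.w₁ * F.w₂) ^ 2) :=
      hgo.mul (F.four₁.odd_card_W.mul F.four₂.odd_card_W).pow
    have hcop : IsCoprime (32 : ℤ) ((g * (F.w₁ * F.w₂) ^ 2 : ℕ) : ℤ) :=
      Int.isCoprime_iff_gcd_eq_one.2 (by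
        show Nat.gcd 32 (g * (F.w₁ * F.w₂) ^ 2) = 1
        exact (Nat.coprime_two_left.2 hodd).pow_left 5)
    refine Cfsg.Lib.GenDihedral.eight_dvd (hcop.dvd_of_dvd_mul_left ?_)
    have hc : ((g * (F.w₁ * F.w₂) ^ 2 : ℕ) : ℤ) * (e * (X : ℤ) - 1) ^ 2 =
        (g : ℤ) * (((e * (X : ℤ)) - 1) ^ 2 * ((F.w₁ : ℤ) * F.w₂) ^ 2) := by push_cast; ring
    rw [hc]; exact h32
  · intro h
    apply hne
    have : ((e * (X : ℤ) : ℤ) : ℂ) = 1 := by rw [h]; norm_num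
    push_cast at this
    linear_combination (e : ℂ) * this - (X : ℂ) * hee
  · rw [habs e X he]; exact_mod_cast hX3
  · rw [habs e₁ U he₁]; exact_mod_cast three_le_deg hm.nonab φ hφ
  · rw [habs e₂ V he₂]; exact_mod_cast three_le_deg hm.nonab ψ hψ
  · apply Int.cast_injective (α := ℂ)
    push_cast
    linear_combination hrel
  · apply Rat.cast_injective (α := ℂ)
    push_cast at hsec ⊢
    have hinv : ∀ (a : ℂ) (n : ℕ), a * a = 1 → 1 / (a * (n : ℂ)) = a / n := fun a n ha => by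
      rw [one_div, mul_inv, inv_eq_of_mul_eq_one_right ha, div_eq_mul_inv]
    rw [hinv _ _ hee, hinv _ _ hee₁, hinv _ _ hee₂, hsec]
    field_simp
    ring

/-- The order bounds and the ratio. -/
theorem bounds (hm : Minimal G) : F.Bounds := by
  obtain ⟨ξ, D, E, h⟩ := F.degreeSpec hm
  obtain ⟨k, hk⟩ := h.mod_eight
  have hk0 : k ≠ 0 := fun e => h.ne_one (by rw [e, mul_zero] at hk; omega)
  have hξ : (ξ : ℚ) = 8 * k + 1 := by exact_mod_cast (show ξ = 8 * k + 1 by omega)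
  have hkk : 0 < (k : ℚ) ^ 2 := by positivity
  have hk2 : (k : ℤ) ≤ k ^ 2 ∧ -k ≤ k ^ 2 := ⟨Int.le_self_sq k, by nlinarith [sq_nonneg (k + 1)]⟩
  have hkq : (k : ℚ) ≤ (k : ℚ) ^ 2 ∧ -(k : ℚ) ≤ (k : ℚ) ^ 2 := ⟨by exact_mod_cast hk2.1, by exact_mod_cast hk2.2⟩
  set P := (F.w₁ : ℚ) * F.w₂ with hP
  set R := (F.m : ℚ) ^ 3 * (F.w₁ + F.w₂) ^ 2 with hR
  have hR0 : 0 < R := by
    have := F.m_pos; have := F.w₁_pos
    positivity
  have hord : 64 * (k : ℚ) ^ 2 * (Nat.card G * P ^ 2) = 8 * R * ((8 * k + 1) * (8 * k + 2)) := by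
    have := h.order
    rw [hξ] at this
    rw [hR, hP]
    linear_combination this
  have hl : 42 * (k : ℚ) ^ 2 ≤ (8 * k + 1) * (8 * k + 2) := by nlinarith [hkq.1, hkq.2]
  have hu : (8 * (k : ℚ) + 1) * (8 * k + 2) ≤ 90 * (k : ℚ) ^ 2 := by
    have : (1 : ℚ) ≤ (k : ℚ) ^ 2 := by exact_mod_cast (show (1 : ℤ) ≤ k ^ 2 from (sq_pos_of_ne_zero hk0))
    nlinarith [hkq.1, hkq.2]
  refine ⟨?_, ?_, ?_⟩
  · refine le_of_mul_le_mul_left ?_ hkk
    rw [show 21 * (F.m : ℚ) ^ 3 * (F.w₁ + F.w₂) ^ 2 = 21 * R by rw [hR]; ring]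
    nlinarith [mul_le_mul_of_nonneg_left hl hR0.le]
  · refine le_of_mul_le_mul_left ?_ hkk
    rw [show 45 * (F.m : ℚ) ^ 3 * (F.w₁ + F.w₂) ^ 2 = 45 * R by rw [hR]; ring]
    nlinarith [mul_le_mul_of_nonneg_left hu hR0.le]
  · exact ratio_lt_nine h.mod_eight h.ne_one h.three_le h.sum h.order h.second F.w₁_pos F.w₂_pos F.m_pos

end Frame

end Cfsg.Lib.GWD
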